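import Cfsg.Agent.Lib.G2ThreeMult.Perms

/-! Relations of the permutations, part 0. -/

set_option autoImplicit false
set_option maxRecDepth 20000
set_option maxHeartbeats 0
set_option Elab.async false

namespace Cfsg.Agent.G2ThreeMult.Perms

theorem stated_0 : statedOK Data.rels0 Data.sides0 = true := by decide +kernel

theorem sides_0 : sidesOK Data.sides0 = true := by decide +kernel

theorem stated_1 : statedOK Data.rels1 Data.sides1 = true := by decide +kernel

theorem sides_1 : sidesOK Data.sides1 = true := by decide +kernel

theorem stated_2 : statedOK Data.rels2 Data.sides2 = true := by decide +kernel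

theorem sides_2 : sidesOK Data.sides2 = true := by decide +kernel

theorem stated_3 : statedOK Data.rels3 Data.sides3 = true := by decide +kernel

theorem sides_3 : sidesOK Data.sides3 = true := by decide +kernel

theorem stated_4 : statedOK Data.rels4 Data.sides4 = true := by decide +kernel

theorem sides_4 : sidesOK Data.sides4 = true := by decide +kernel

theorem stated_5 : statedOK Data.rels5 Data.sides5 = true := by decide +kernel

theorem sides_5 : sidesOK Data.sides5 = true := by decide +kernel

theorem stated_6 : statedOK Data.rels6 Data.sides6 = true := by decide +kernel

theorem sides_6 : sidesOK Data.sides6 = true := by decide +kernel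

theorem stated_7 : statedOK Data.rels7 Data.sides7 = true := by decide +kernel

theorem sides_7 : sidesOK Data.sides7 = true := by decide +kernel

theorem stated_8 : statedOK Data.rels8 Data.sides8 = true := by decide +kernel

theorem sides_8 : sidesOK Data.sides8 = true := by decide +kernel

theorem stated_9 : statedOK Data.rels9 Data.sides9 = true := by decide +kernel

theorem sides_9 : sidesOK Data.sides9 = true := by decide +kernel

theorem stated_10 : statedOK Data.rels10 Data.sides10 = true := by decide +kernel

theorem sides_10 : sidesOK Data.sides10 = true := by decide +kernel

theorem stated_11 : statedOK Data.rels11 Data.sides11 = true := by decide +kernel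

theorem sides_11 : sidesOK Data.sides11 = true := by decide +kernel

theorem stated_12 : statedOK Data.rels12 Data.sides12 = true := by decide +kernel

theorem sides_12 : sidesOK Data.sides12 = true := by decide +kernel

theorem stated_13 : statedOK Data.rels13 Data.sides13 = true := by decide +kernel

theorem sides_13 : sidesOK Data.sides13 = true := by decide +kernel

theorem stated_14 : statedOK Data.rels14 Data.sides14 = true := by decide +kernel

theorem sides_14 : sidesOK Data.sides14 = true := by decide +kernel

theorem stated_15 : statedOK Data.rels15 Data.sides15 = true := by decide +kernel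

theorem sides_15 : sidesOK Data.sides15 = true := by decide +kernel

theorem stated_16 : statedOK Data.rels16 Data.sides16 = true := by decide +kernel

theorem sides_16 : sidesOK Data.sides16 = true := by decide +kernel

theorem stated_17 : statedOK Data.rels17 Data.sides17 = true := by decide +kernel

theorem sides_17 : sidesOK Data.sides17 = true := by decide +kernel

theorem stated_18 : statedOK Data.rels18 Data.sides18 = true := by decide +kernel

theorem sides_18 : sidesOK Data.sides18 = true := by decide +kernel

theorem stated_19 : statedOK Data.rels19 Data.sides19 = true := by decide +kernel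

theorem sides_19 : sidesOK Data.sides19 = true := by decide +kernel

theorem part_0 : ∀ q ∈ List.flatten [Data.rels0, Data.rels1, Data.rels2, Data.rels3, Data.rels4, Data.rels5, Data.rels6, Data.rels7, Data.rels8, Data.rels9, Data.rels10, Data.rels11, Data.rels12, Data.rels13, Data.rels14, Data.rels15, Data.rels16, Data.rels17, Data.rels18, Data.rels19],
    ∀ x < 1134, ev (sideOf q).1 x = ev (sideOf q).2 x := by
  simp only [List.flatten_cons, List.flatten_nil, List.append_nil, List.forall_mem_append]
  exact ⟨rowsOK stated_0 sides_0, rowsOK stated_1 sides_1, rowsOK stated_2 sides_2, rowsOK stated_3 sides_3, rowsOK stated_4 sides_4, rowsOK stated_5 sides_5, rowsOK stated_6 sides_6, rowsOK stated_7 sides_7, rowsOK stated_8 sides_8, rowsOK stated_9 sides_9, rowsOK stated_10 sides_10, rowsOK stated_11 sides_11, rowsOK stated_12 sides_12, rowsOK stated_13 sides_13, rowsOK stated_14 sides_14, rowsOK stated_15 sides_15, rowsOK stated_16 sides_16, rowsOK stated_17 sides_17, rowsOK stated_18 sides_18, rowsOK stated_19 sides_19⟩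

end Cfsg.Agent.G2ThreeMult.Perms
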