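import Cfsg.Agent.Lib.G2ThreeMult.Perms

/-! Relations of the permutations, part 1. -/

set_option autoImplicit false
set_option maxRecDepth 20000
set_option maxHeartbeats 0
set_option Elab.async false

namespace Cfsg.Agent.G2ThreeMult.Perms

theorem stated_20 : statedOK Data.rels20 Data.sides20 = true := by decide +kernel

theorem sides_20 : sidesOK Data.sides20 = true := by decide +kernel

theorem stated_21 : statedOK Data.rels21 Data.sides21 = true := by decide +kernel

theorem sides_21 : sidesOK Data.sides21 = true := by decide +kernel

theorem stated_22 : statedOK Data.rels22 Data.sides22 = true := by decide +kernel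

theorem sides_22 : sidesOK Data.sides22 = true := by decide +kernel

theorem stated_23 : statedOK Data.rels23 Data.sides23 = true := by decide +kernel

theorem sides_23 : sidesOK Data.sides23 = true := by decide +kernel

theorem stated_24 : statedOK Data.rels24 Data.sides24 = true := by decide +kernel

theorem sides_24 : sidesOK Data.sides24 = true := by decide +kernel

theorem stated_25 : statedOK Data.rels25 Data.sides25 = true := by decide +kernel

theorem sides_25 : sidesOK Data.sides25 = true := by decide +kernel

theorem stated_26 : statedOK Data.rels26 Data.sides26 = true := by decide +kernel

theorem sides_26 : sidesOK Data.sides26 = true := by decide +kernel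

theorem stated_27 : statedOK Data.rels27 Data.sides27 = true := by decide +kernel

theorem sides_27 : sidesOK Data.sides27 = true := by decide +kernel

theorem stated_28 : statedOK Data.rels28 Data.sides28 = true := by decide +kernel

theorem sides_28 : sidesOK Data.sides28 = true := by decide +kernel

theorem stated_29 : statedOK Data.rels29 Data.sides29 = true := by decide +kernel

theorem sides_29 : sidesOK Data.sides29 = true := by decide +kernel

theorem stated_30 : statedOK Data.rels30 Data.sides30 = true := by decide +kernel

theorem sides_30 : sidesOK Data.sides30 = true := by decide +kernel

theorem stated_31 : statedOK Data.rels31 Data.sides31 = true := by decide +kernel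

theorem sides_31 : sidesOK Data.sides31 = true := by decide +kernel

theorem stated_32 : statedOK Data.rels32 Data.sides32 = true := by decide +kernel

theorem sides_32 : sidesOK Data.sides32 = true := by decide +kernel

theorem stated_33 : statedOK Data.rels33 Data.sides33 = true := by decide +kernel

theorem sides_33 : sidesOK Data.sides33 = true := by decide +kernel

theorem stated_34 : statedOK Data.rels34 Data.sides34 = true := by decide +kernel

theorem sides_34 : sidesOK Data.sides34 = true := by decide +kernel

theorem stated_35 : statedOK Data.rels35 Data.sides35 = true := by decide +kernel

theorem sides_35 : sidesOK Data.sides35 = true := by decide +kernel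

theorem stated_36 : statedOK Data.rels36 Data.sides36 = true := by decide +kernel

theorem sides_36 : sidesOK Data.sides36 = true := by decide +kernel

theorem stated_37 : statedOK Data.rels37 Data.sides37 = true := by decide +kernel

theorem sides_37 : sidesOK Data.sides37 = true := by decide +kernel

theorem stated_38 : statedOK Data.rels38 Data.sides38 = true := by decide +kernel

theorem sides_38 : sidesOK Data.sides38 = true := by decide +kernel

theorem stated_39 : statedOK Data.rels39 Data.sides39 = true := by decide +kernel

theorem sides_39 : sidesOK Data.sides39 = true := by decide +kernel

theorem part_1 : ∀ q ∈ List.flatten [Data.rels20, Data.rels21, Data.rels22, Data.rels23, Data.rels24, Data.rels25, Data.rels26, Data.rels27, Data.rels28, Data.rels29, Data.rels30, Data.rels31, Data.rels32, Data.rels33, Data.rels34, Data.rels35, Data.rels36, Data.rels37, Data.rels38, Data.rels39],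
    ∀ x < 1134, ev (sideOf q).1 x = ev (sideOf q).2 x := by
  simp only [List.flatten_cons, List.flatten_nil, List.append_nil, List.forall_mem_append]
  exact ⟨rowsOK stated_20 sides_20, rowsOK stated_21 sides_21, rowsOK stated_22 sides_22, rowsOK stated_23 sides_23, rowsOK stated_24 sides_24, rowsOK stated_25 sides_25, rowsOK stated_26 sides_26, rowsOK stated_27 sides_27, rowsOK stated_28 sides_28, rowsOK stated_29 sides_29, rowsOK stated_30 sides_30, rowsOK stated_31 sides_31, rowsOK stated_32 sides_32, rowsOK stated_33 sides_33, rowsOK stated_34 sides_34, rowsOK stated_35 sides_35, rowsOK stated_36 sides_36, rowsOK stated_37 sides_37, rowsOK stated_38 sides_38, rowsOK stated_39 sides_39⟩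

end Cfsg.Agent.G2ThreeMult.Perms
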