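import Cfsg.Agent.Lib.G2ThreeMult.Perms

/-! Relations of the permutations, part 2. -/

set_option autoImplicit false
set_option maxRecDepth 20000
set_option maxHeartbeats 0
set_option Elab.async false

namespace Cfsg.Agent.G2ThreeMult.Perms

theorem stated_40 : statedOK Data.rels40 Data.sides40 = true := by decide +kernel

theorem sides_40 : sidesOK Data.sides40 = true := by decide +kernel

theorem stated_41 : statedOK Data.rels41 Data.sides41 = true := by decide +kernel

theorem sides_41 : sidesOK Data.sides41 = true := by decide +kernel

theorem stated_42 : statedOK Data.rels42 Data.sides42 = true := by decide +kernel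

theorem sides_42 : sidesOK Data.sides42 = true := by decide +kernel

theorem stated_43 : statedOK Data.rels43 Data.sides43 = true := by decide +kernel

theorem sides_43 : sidesOK Data.sides43 = true := by decide +kernel

theorem stated_44 : statedOK Data.rels44 Data.sides44 = true := by decide +kernel

theorem sides_44 : sidesOK Data.sides44 = true := by decide +kernel

theorem stated_45 : statedOK Data.rels45 Data.sides45 = true := by decide +kernel

theorem sides_45 : sidesOK Data.sides45 = true := by decide +kernel

theorem stated_46 : statedOK Data.rels46 Data.sides46 = true := by decide +kernel

theorem sides_46 : sidesOK Data.sides46 = true := by decide +kernel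

theorem stated_47 : statedOK Data.rels47 Data.sides47 = true := by decide +kernel

theorem sides_47 : sidesOK Data.sides47 = true := by decide +kernel

theorem stated_48 : statedOK Data.rels48 Data.sides48 = true := by decide +kernel

theorem sides_48 : sidesOK Data.sides48 = true := by decide +kernel

theorem stated_49 : statedOK Data.rels49 Data.sides49 = true := by decide +kernel

theorem sides_49 : sidesOK Data.sides49 = true := by decide +kernel

theorem stated_50 : statedOK Data.rels50 Data.sides50 = true := by decide +kernel

theorem sides_50 : sidesOK Data.sides50 = true := by decide +kernel

theorem stated_51 : statedOK Data.rels51 Data.sides51 = true := by decide +kernel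

theorem sides_51 : sidesOK Data.sides51 = true := by decide +kernel

theorem stated_52 : statedOK Data.rels52 Data.sides52 = true := by decide +kernel

theorem sides_52 : sidesOK Data.sides52 = true := by decide +kernel

theorem stated_53 : statedOK Data.rels53 Data.sides53 = true := by decide +kernel

theorem sides_53 : sidesOK Data.sides53 = true := by decide +kernel

theorem stated_54 : statedOK Data.rels54 Data.sides54 = true := by decide +kernel

theorem sides_54 : sidesOK Data.sides54 = true := by decide +kernel

theorem stated_55 : statedOK Data.rels55 Data.sides55 = true := by decide +kernel

theorem sides_55 : sidesOK Data.sides55 = true := by decide +kernel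

theorem stated_56 : statedOK Data.rels56 Data.sides56 = true := by decide +kernel

theorem sides_56 : sidesOK Data.sides56 = true := by decide +kernel

theorem stated_57 : statedOK Data.rels57 Data.sides57 = true := by decide +kernel

theorem sides_57 : sidesOK Data.sides57 = true := by decide +kernel

theorem stated_58 : statedOK Data.rels58 Data.sides58 = true := by decide +kernel

theorem sides_58 : sidesOK Data.sides58 = true := by decide +kernel

theorem stated_59 : statedOK Data.rels59 Data.sides59 = true := by decide +kernel

theorem sides_59 : sidesOK Data.sides59 = true := by decide +kernel

theorem part_2 : ∀ q ∈ List.flatten [Data.rels40, Data.rels41, Data.rels42, Data.rels43, Data.rels44, Data.rels45, Data.rels46, Data.rels47, Data.rels48, Data.rels49, Data.rels50, Data.rels51, Data.rels52, Data.rels53, Data.rels54, Data.rels55, Data.rels56, Data.rels57, Data.rels58, Data.rels59],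
    ∀ x < 1134, ev (sideOf q).1 x = ev (sideOf q).2 x := by
  simp only [List.flatten_cons, List.flatten_nil, List.append_nil, List.forall_mem_append]
  exact ⟨rowsOK stated_40 sides_40, rowsOK stated_41 sides_41, rowsOK stated_42 sides_42, rowsOK stated_43 sides_43, rowsOK stated_44 sides_44, rowsOK stated_45 sides_45, rowsOK stated_46 sides_46, rowsOK stated_47 sides_47, rowsOK stated_48 sides_48, rowsOK stated_49 sides_49, rowsOK stated_50 sides_50, rowsOK stated_51 sides_51, rowsOK stated_52 sides_52, rowsOK stated_53 sides_53, rowsOK stated_54 sides_54, rowsOK stated_55 sides_55, rowsOK stated_56 sides_56, rowsOK stated_57 sides_57, rowsOK stated_58 sides_58, rowsOK stated_59 sides_59⟩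

end Cfsg.Agent.G2ThreeMult.Perms
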