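import Cfsg.Agent.Lib.G2ThreeMult.Perms

/-! Relations of the permutations, part 3. -/

set_option autoImplicit false
set_option maxRecDepth 20000
set_option maxHeartbeats 0
set_option Elab.async false

namespace Cfsg.Agent.G2ThreeMult.Perms

theorem stated_60 : statedOK Data.rels60 Data.sides60 = true := by decide +kernel

theorem sides_60 : sidesOK Data.sides60 = true := by decide +kernel

theorem stated_61 : statedOK Data.rels61 Data.sides61 = true := by decide +kernel

theorem sides_61 : sidesOK Data.sides61 = true := by decide +kernel

theorem stated_62 : statedOK Data.rels62 Data.sides62 = true := by decide +kernel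

theorem sides_62 : sidesOK Data.sides62 = true := by decide +kernel

theorem stated_63 : statedOK Data.rels63 Data.sides63 = true := by decide +kernel

theorem sides_63 : sidesOK Data.sides63 = true := by decide +kernel

theorem stated_64 : statedOK Data.rels64 Data.sides64 = true := by decide +kernel

theorem sides_64 : sidesOK Data.sides64 = true := by decide +kernel

theorem stated_65 : statedOK Data.rels65 Data.sides65 = true := by decide +kernel

theorem sides_65 : sidesOK Data.sides65 = true := by decide +kernel

theorem stated_66 : statedOK Data.rels66 Data.sides66 = true := by decide +kernel

theorem sides_66 : sidesOK Data.sides66 = true := by decide +kernel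

theorem stated_67 : statedOK Data.rels67 Data.sides67 = true := by decide +kernel

theorem sides_67 : sidesOK Data.sides67 = true := by decide +kernel

theorem stated_68 : statedOK Data.rels68 Data.sides68 = true := by decide +kernel

theorem sides_68 : sidesOK Data.sides68 = true := by decide +kernel

theorem stated_69 : statedOK Data.rels69 Data.sides69 = true := by decide +kernel

theorem sides_69 : sidesOK Data.sides69 = true := by decide +kernel

theorem stated_70 : statedOK Data.rels70 Data.sides70 = true := by decide +kernel

theorem sides_70 : sidesOK Data.sides70 = true := by decide +kernel

theorem stated_71 : statedOK Data.rels71 Data.sides71 = true := by decide +kernel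

theorem sides_71 : sidesOK Data.sides71 = true := by decide +kernel

theorem stated_72 : statedOK Data.rels72 Data.sides72 = true := by decide +kernel

theorem sides_72 : sidesOK Data.sides72 = true := by decide +kernel

theorem stated_73 : statedOK Data.rels73 Data.sides73 = true := by decide +kernel

theorem sides_73 : sidesOK Data.sides73 = true := by decide +kernel

theorem stated_74 : statedOK Data.rels74 Data.sides74 = true := by decide +kernel

theorem sides_74 : sidesOK Data.sides74 = true := by decide +kernel

theorem stated_75 : statedOK Data.rels75 Data.sides75 = true := by decide +kernel

theorem sides_75 : sidesOK Data.sides75 = true := by decide +kernel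

theorem stated_76 : statedOK Data.rels76 Data.sides76 = true := by decide +kernel

theorem sides_76 : sidesOK Data.sides76 = true := by decide +kernel

theorem stated_77 : statedOK Data.rels77 Data.sides77 = true := by decide +kernel

theorem sides_77 : sidesOK Data.sides77 = true := by decide +kernel

theorem stated_78 : statedOK Data.rels78 Data.sides78 = true := by decide +kernel

theorem sides_78 : sidesOK Data.sides78 = true := by decide +kernel

theorem stated_79 : statedOK Data.rels79 Data.sides79 = true := by decide +kernel

theorem sides_79 : sidesOK Data.sides79 = true := by decide +kernel

theorem part_3 : ∀ q ∈ List.flatten [Data.rels60, Data.rels61, Data.rels62, Data.rels63, Data.rels64, Data.rels65, Data.rels66, Data.rels67, Data.rels68, Data.rels69, Data.rels70, Data.rels71, Data.rels72, Data.rels73, Data.rels74, Data.rels75, Data.rels76, Data.rels77, Data.rels78, Data.rels79],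
    ∀ x < 1134, ev (sideOf q).1 x = ev (sideOf q).2 x := by
  simp only [List.flatten_cons, List.flatten_nil, List.append_nil, List.forall_mem_append]
  exact ⟨rowsOK stated_60 sides_60, rowsOK stated_61 sides_61, rowsOK stated_62 sides_62, rowsOK stated_63 sides_63, rowsOK stated_64 sides_64, rowsOK stated_65 sides_65, rowsOK stated_66 sides_66, rowsOK stated_67 sides_67, rowsOK stated_68 sides_68, rowsOK stated_69 sides_69, rowsOK stated_70 sides_70, rowsOK stated_71 sides_71, rowsOK stated_72 sides_72, rowsOK stated_73 sides_73, rowsOK stated_74 sides_74, rowsOK stated_75 sides_75, rowsOK stated_76 sides_76, rowsOK stated_77 sides_77, rowsOK stated_78 sides_78, rowsOK stated_79 sides_79⟩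

end Cfsg.Agent.G2ThreeMult.Perms
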