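import Cfsg.Agent.Lib.G2ThreeMult.Upper
import Cfsg.Agent.Lib.G2ThreeMult.Rels0
import Cfsg.Agent.Lib.G2ThreeMult.Rels1
import Cfsg.Agent.Lib.G2ThreeMult.Rels2
import Cfsg.Agent.Lib.G2ThreeMult.Rels3
import Cfsg.Agent.Lib.Chevalley.Types.SimpleG2
import Cfsg.Prelude.Def_KGroupFacts

/-!
# The triple cover of G2(3)

Thirteen permutations satisfy the relations of the presented group up to powers of the last of them,
which is central, and the power is not trivial for some commuting pair.
-/

set_option autoImplicit false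
set_option maxRecDepth 20000
set_option maxHeartbeats 0

open scoped commutatorElement

namespace Cfsg.Agent.G2ThreeMult

open Cfsg.Lie Cfsg.Agent.Chevalley Cfsg.Agent.Chevalley.Cert Cfsg.Agent.Chevalley.StUnip Cfsg.Agent.Chevalley.Relations Cfsg.Agent.Chevalley.Perfect Cfsg.Agent.Chevalley.Check Cfsg.Agent.Chevalley.Cover Perms

theorem gen_ok : pts genOK 13 = true := by decide +kernel

theorem gen_spec {g : ℕ} (hg : g < 13) {x : ℕ} (hx : x < 1134) :
    get (tab g 1) x < 1134 ∧ get (tab g 2) x = get (tab g 1) (get (tab g 1) x) ∧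
      get (tab g 2) x < 1134 ∧ get (tab g 1) (get (tab g 2) x) = x ∧
      get (tab g 1) (get (tab 12 1) x) = get (tab 12 1) (get (tab g 1) x) := by
  have := pts_spec (pts_spec gen_ok g hg) x hx
  simp only [Bool.and_eq_true, decide_eq_true_eq, beq_iff_eq] at this
  obtain ⟨⟨⟨⟨a, b⟩, c⟩, d⟩, e⟩ := this
  exact ⟨a, b, c, d, e⟩

/-- The permutation of a generator. -/
def Q (g : Fin 13) : Equiv.Perm (Fin 1134) where
  toFun x := ⟨get (tab g 1) x, (gen_spec g.2 x.2).1⟩
  invFun x := ⟨get (tab g 2) x, (gen_spec g.2 x.2).2.2.1⟩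
  left_inv x := Fin.ext (by
    show get (tab g 2) (get (tab g 1) x) = x
    rw [(gen_spec g.2 (gen_spec g.2 x.2).1).2.1, ← (gen_spec g.2 x.2).2.1]
    exact (gen_spec g.2 x.2).2.2.2.1)
  right_inv x := Fin.ext (gen_spec g.2 x.2).2.2.2.1

theorem Q_apply (g : Fin 13) (x : Fin 1134) : ((Q g x : Fin 1134) : ℕ) = get (tab g 1) x := rfl

theorem Q_sq_apply (g : Fin 13) (x : Fin 1134) : (((Q g) ^ 2) x : ℕ) = get (tab g 2) x := by
  rw [pow_two, Equiv.Perm.mul_apply, Q_apply, Q_apply, (gen_spec g.2 x.2).2.1]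

theorem Q_cube (g : Fin 13) : Q g ^ 3 = 1 := by
  refine Equiv.ext fun x => Fin.ext ?_
  rw [pow_succ', Equiv.Perm.mul_apply, Q_apply, Q_sq_apply, (gen_spec g.2 x.2).2.2.2.1]
  rfl

/-- The central permutation. -/
abbrev Z : Equiv.Perm (Fin 1134) := Q 12

theorem Q_comm_Z (g : Fin 13) : Q g * Z = Z * Q g := Equiv.ext fun x =>
  Fin.ext (gen_spec g.2 x.2).2.2.2.2

/-- The generator of a number below thirteen. -/
def Qn (g : ℕ) : Equiv.Perm (Fin 1134) := if h : g < 13 then Q ⟨g, h⟩ else 1

theorem ev_prod : ∀ (w : List (ℕ × ℕ)), (∀ p ∈ w, p.1 < 13 ∧ p.2 < 3) → ∀ x : Fin 1134,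
    (((w.map fun p => Qn p.1 ^ p.2).prod x : Fin 1134) : ℕ) = ev (pack w) x
  | [], _, x => rfl
  | p :: w, h, x => by
    have ih := ev_prod w (fun q hq => h q (List.mem_cons_of_mem _ hq)) x
    obtain ⟨hp, hv⟩ := h p List.mem_cons_self
    rw [List.map_cons, List.prod_cons, Equiv.Perm.mul_apply]
    obtain ⟨g, v⟩ := p
    rw [show Qn g = Q ⟨g, hp⟩ from dif_pos hp]
    interval_cases v
    · simp only [pow_zero, Equiv.Perm.one_apply, ih]
      rfl
    · rw [pow_one, Q_apply, ih]; rfl
    · rw [Q_sq_apply, ih]; rfl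

/-- All rows. -/
def allRows : List (List ℕ) :=
  List.flatten [Data.rels0, Data.rels1, Data.rels2, Data.rels3, Data.rels4, Data.rels5, Data.rels6, Data.rels7, Data.rels8, Data.rels9, Data.rels10, Data.rels11, Data.rels12, Data.rels13, Data.rels14, Data.rels15, Data.rels16, Data.rels17, Data.rels18, Data.rels19] ++
  List.flatten [Data.rels20, Data.rels21, Data.rels22, Data.rels23, Data.rels24, Data.rels25, Data.rels26, Data.rels27, Data.rels28, Data.rels29, Data.rels30, Data.rels31, Data.rels32, Data.rels33, Data.rels34, Data.rels35, Data.rels36, Data.rels37, Data.rels38, Data.rels39] ++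
  List.flatten [Data.rels40, Data.rels41, Data.rels42, Data.rels43, Data.rels44, Data.rels45, Data.rels46, Data.rels47, Data.rels48, Data.rels49, Data.rels50, Data.rels51, Data.rels52, Data.rels53, Data.rels54, Data.rels55, Data.rels56, Data.rels57, Data.rels58, Data.rels59] ++
  List.flatten [Data.rels60, Data.rels61, Data.rels62, Data.rels63, Data.rels64, Data.rels65, Data.rels66, Data.rels67, Data.rels68, Data.rels69, Data.rels70, Data.rels71, Data.rels72, Data.rels73, Data.rels74, Data.rels75, Data.rels76, Data.rels77, Data.rels78, Data.rels79]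

theorem row_ok : ∀ q ∈ allRows, ∀ x < 1134, ev (sideOf q).1 x = ev (sideOf q).2 x := by
  simp only [allRows, List.forall_mem_append]
  exact ⟨⟨⟨part_0, part_1⟩, part_2⟩, part_3⟩

/-- Every relation has a row, and the letters are in range. -/
noncomputable def coverOK : Bool :=
  pts (fun r => pts (fun s => s == r || s == T.neg r ||
    (commOf T.E r s).all (fun c => decide (c.1 < 12) && decide (1 ≤ c.2.2.1) && decide (1 ≤ c.2.2.2)) &&
    [1, 2].all fun t => [1, 2].all fun u => allRows.any fun q =>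
      q.getD 0 0 == r && q.getD 1 0 == s && q.getD 2 0 == t && q.getD 3 0 == u &&
        decide (q.getD 4 0 < 3)) 12) 12

theorem cover_ok : coverOK = true := by decide +kernel

theorem cover_spec {r s : ℕ} (hr : r < 12) (hs : s < 12) (hne : s ≠ r) (hnn : s ≠ T.neg r) :
    (∀ c ∈ commOf T.E r s, c.1 < 12 ∧ 1 ≤ c.2.2.1 ∧ 1 ≤ c.2.2.2) ∧
      ∀ t u, (t = 1 ∨ t = 2) → (u = 1 ∨ u = 2) → ∃ e < 3,
        ∀ x < 1134, ev (pack (lhsW r s t u)) x = ev (pack (rhsW r s t u e)) x := by
  have := pts_spec (pts_spec cover_ok r hr) s hs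
  simp only [Bool.or_eq_true, beq_iff_eq, hne, hnn, false_or, Bool.and_eq_true, List.all_eq_true,
    List.any_eq_true, decide_eq_true_eq] at this
  refine ⟨fun c hc => ⟨(this.1 c hc).1.1, (this.1 c hc).1.2, (this.1 c hc).2⟩, fun t u ht hu => ?_⟩
  obtain ⟨q, hq, ⟨⟨⟨a, b⟩, c⟩, d⟩, e⟩ :=
    this.2 t (by rcases ht with rfl | rfl <;> simp) u (by rcases hu with rfl | rfl <;> simp)
  refine ⟨q.getD 4 0, e, fun x hx => ?_⟩
  have := row_ok q hq x hx
  rwa [sideOf, a, b, c, d] at this

/-- The group generated by the permutations. -/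
def S : Subgroup (Equiv.Perm (Fin 1134)) := Subgroup.closure (Set.range Q)

/-- A generator as an element of the group. -/
def QS (g : Fin 13) : ↥S := ⟨Q g, Subgroup.subset_closure ⟨g, rfl⟩⟩

/-- The central subgroup. -/
def K : Subgroup ↥S := Subgroup.zpowers (QS 12)

theorem K_le_center : K ≤ Subgroup.center ↥S := by
  rw [K, Subgroup.zpowers_le, Subgroup.mem_center_iff]
  rintro ⟨p, hp⟩
  refine Subtype.ext ?_
  show p * Z = Z * p
  induction hp using Subgroup.closure_induction with
  | mem p hp => obtain ⟨g, rfl⟩ := hp; exact Q_comm_Z g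
  | one => simp
  | mul a b _ _ ha hb => exact (Commute.mul_left (show Commute a Z from ha) hb).eq
  | inv a _ ha => exact (Commute.inv_left (show Commute a Z from ha)).eq

instance : K.Normal :=
  ⟨fun n hn g => by rw [Subgroup.mem_center_iff.1 (K_le_center hn) g, mul_inv_cancel_right]; exact hn⟩

theorem Z_pow_ne : ∀ n < 3, n ≠ 0 → Z ^ n ≠ 1 := by
  intro n hn h0 h
  have h1 : (((Z ^ n) 0 : Fin 1134) : ℕ) = 0 := by rw [h]; rfl
  interval_cases n
  · exact h0 rfl
  · rw [pow_one, Q_apply] at h1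
    revert h1; decide +kernel
  · rw [Q_sq_apply] at h1
    revert h1; decide +kernel

theorem orderOf_Z : orderOf Z = 3 := by
  haveI := Fact.mk Nat.prime_three
  exact orderOf_eq_prime (Q_cube 12) fun h => Z_pow_ne 1 (by norm_num) (by norm_num) (by rw [pow_one]; exact h)

theorem card_K : Nat.card K = 3 := by
  rw [K, Nat.card_zpowers]
  rw [← orderOf_injective S.subtype S.subtype_injective]
  exact orderOf_Z

/-- The power of the central element between the lifts of the base pair. -/
theorem Z_mem : QS 12 ∈ commutator ↥S := by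
  obtain ⟨e, he, hx⟩ := (cover_spec (r := 6) (s := 9) (by norm_num) (by norm_num) (by norm_num)
    (by decide +kernel)).2 1 1 (Or.inl rfl) (Or.inl rfl)
  have heq : (Q 9 * Q 6) = (Q 6 * Q 9) * Z ^ e := by
    refine Equiv.ext fun x => Fin.ext ?_
    have h1 := ev_prod (lhsW 6 9 1 1) (by decide) x
    have h2 := ev_prod (rhsW 6 9 1 1 e) (by
      intro p hp
      have hw : word 6 9 1 1 = [] := by decide +kernel
      simp only [rhsW, hw, List.append_nil, List.cons_append, List.nil_append, List.mem_cons,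
        List.not_mem_nil, or_false] at hp
      rcases hp with rfl | rfl | rfl <;> exact ⟨by norm_num, by first | exact he | norm_num⟩) x
    have hw : word 6 9 1 1 = [] := by decide +kernel
    rw [hx x x.2, ← h2] at h1
    simp only [lhsW, rhsW, hw, List.append_nil, List.cons_append, List.nil_append, List.map_cons,
      List.map_nil, List.prod_cons, List.prod_nil, mul_one, pow_one, Qn,
      dif_pos (show 6 < 13 by norm_num), dif_pos (show 9 < 13 by norm_num),
      dif_pos (show 12 < 13 by norm_num)] at h1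
    rw [mul_assoc]
    exact h1
  have h0 : e ≠ 0 := by
    rintro rfl
    rw [pow_zero, mul_one] at heq
    have : (((Q 9 * Q 6) 0 : Fin 1134) : ℕ) = ((Q 6 * Q 9) 0 : Fin 1134) := by rw [heq]
    simp only [Equiv.Perm.mul_apply, Q_apply] at this
    revert this
    decide +kernel
  have h2 : QS 12 ^ e ∈ commutator ↥S := by
    have e1 : QS 12 ^ e = (QS 6 * QS 9)⁻¹ * (QS 9 * QS 6) := Subtype.ext (by
      show Z ^ e = (Q 6 * Q 9)⁻¹ * (Q 9 * Q 6)
      rw [heq]; group)
    rw [e1, show (QS 6 * QS 9)⁻¹ * (QS 9 * QS 6) = ⁅(QS 9)⁻¹, (QS 6)⁻¹⁆ by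
      rw [commutatorElement_def]; group]
    exact Subgroup.commutator_mem_commutator (Subgroup.mem_top _) (Subgroup.mem_top _)
  have h3 : QS 12 ^ 3 = 1 := Subtype.ext (Q_cube 12)
  interval_cases e
  · exact absurd rfl h0
  · simpa using h2
  · have := (commutator ↥S).inv_mem h2
    rwa [show (QS 12 ^ 2)⁻¹ = QS 12 from inv_eq_of_mul_eq_one_right (by rw [← pow_succ, h3])] at this

universe u

variable {F : Type u} [Field F] [Fintype F] (hF : Fintype.card F = 3)
include hF

/-- The value of a field element. -/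
noncomputable def val (x : F) : ℕ := (nat_cast_surj hF x).choose % 3

theorem cast_val (x : F) : ((val hF x : ℕ) : F) = x := by
  haveI := SmallFields.charP_three hF
  rw [val, ← CharP.natCast_eq_natCast_mod F 3]
  exact (nat_cast_surj hF x).choose_spec.symm

theorem pow_val (q : ↥S ⧸ K) (hq : q ^ 3 = 1) {x : F} {k : ℕ} (h : x = (k : F)) :
    q ^ val hF x = q ^ k := by
  haveI := SmallFields.charP_three hF
  have : (val hF x : F) = (k : F) := by rw [cast_val, h]
  rw [CharP.natCast_eq_natCast F 3, Nat.ModEq] at this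
  rw [← Nat.div_add_mod (val hF x) 3, ← Nat.div_add_mod k 3, pow_add, pow_add, pow_mul, pow_mul, hq,
    one_pow, one_pow, this]

/-- The images of the root elements. -/
noncomputable def X (r : ℕ) (t : F) : ↥S ⧸ K :=
  if h : r < 13 then QuotientGroup.mk' K (QS ⟨r, h⟩) ^ val hF t else 1

theorem X_cast {r : ℕ} (hr : r < 13) (k : ℕ) :
    X hF r (k : F) = QuotientGroup.mk' K (QS ⟨r, hr⟩) ^ k := by
  rw [X, dif_pos hr]
  exact pow_val hF _ (by rw [← map_pow, show QS ⟨r, hr⟩ ^ 3 = 1 from Subtype.ext (Q_cube _), map_one]) rfl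

theorem X_rels : Sys.Rels chevG2 (X hF) := by
  haveI := SmallFields.charP_three hF
  have hsurj : ∀ t : F, ∃ n < 3, t = (n : ℕ) := fun t => ⟨val hF t, Nat.mod_lt _ (by norm_num), (cast_val hF t).symm⟩
  refine ⟨fun r hr t u => ?_, fun r hr s hs hne hnn t u => ?_⟩
  · have hr' : r < 13 := Nat.lt_succ_of_lt hr
    obtain ⟨n, -, rfl⟩ := hsurj t
    obtain ⟨m, -, rfl⟩ := hsurj u
    rw [← Nat.cast_add, X_cast hF hr', X_cast hF hr', X_cast hF hr', pow_add]
  have hr' : r < 13 := Nat.lt_succ_of_lt hr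
  have hs' : s < 13 := Nat.lt_succ_of_lt hs
  obtain ⟨n, hn, rfl⟩ := hsurj t
  obtain ⟨m, hm, rfl⟩ := hsurj u
  obtain ⟨hterms, hrow⟩ := cover_spec (r := r) (s := s) hr hs hne (by rw [hC.neg_eq hr]; exact hnn)
  rw [commOf_eq hC hr hs] at hterms
  have hX0 : ∀ {k}, k < 13 → X hF k (0 : F) = 1 := fun {k} hk => by
    rw [show (0 : F) = ((0 : ℕ) : F) from Nat.cast_zero.symm, X_cast hF hk, pow_zero]
  by_cases hz : n = 0 ∨ m = 0
  · have hw : ((chevG2.commWord F r s (n : F) (m : F)).map fun p => X hF p.1 p.2).prod = 1 := by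
      refine List.prod_eq_one fun g hg => ?_
      obtain ⟨e, he, rfl⟩ := List.mem_map.1 hg
      simp only [ChevalleyDatum.commWord, List.mem_map] at he
      obtain ⟨d, hd, rfl⟩ := he
      obtain ⟨h1, h2, h3⟩ := hterms d hd
      have : ((d.2.1 : F) * (-(n : F)) ^ d.2.2.1 * (m : F) ^ d.2.2.2) = 0 := by
        rcases hz with rfl | rfl
        · rw [Nat.cast_zero, neg_zero, zero_pow (by omega), mul_zero, zero_mul]
        · rw [Nat.cast_zero, zero_pow (by omega), mul_zero]
      show X hF d.1 _ = 1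
      rw [this]
      exact hX0 (Nat.lt_succ_of_lt h1)
    rw [hw, mul_one, X_cast hF hr', X_cast hF hs']
    rcases hz with rfl | rfl <;> simp
  push_neg at hz
  obtain ⟨e, he, hx⟩ := hrow n m (by omega) (by omega)
  -- the words in the group
  let φ : ℕ × ℕ → ↥S := fun p => if h : p.1 < 13 then QS ⟨p.1, h⟩ ^ p.2 else 1
  have hφ : ∀ w : List (ℕ × ℕ), ((w.map φ).prod : ↥S).1 = (w.map fun p => Qn p.1 ^ p.2).prod := by
    intro w
    induction w with
    | nil => rfl
    | cons p w ih =>
      rw [List.map_cons, List.map_cons, List.prod_cons, List.prod_cons, Subgroup.coe_mul, ih]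
      congr 1
      simp only [φ, Qn]
      split <;> simp [QS]
  have hword : ∀ p ∈ word r s n m, p.1 < 12 ∧ p.2 < 3 := by
    intro p hp
    simp only [word, List.mem_map, commOf_eq hC hr hs] at hp
    obtain ⟨c, hc, rfl⟩ := hp
    refine ⟨(hterms c hc).1, ?_⟩
    omega
  have hL : ∀ p ∈ lhsW r s n m, p.1 < 13 ∧ p.2 < 3 := by
    intro p hp
    simp only [lhsW, List.mem_cons, List.not_mem_nil, or_false] at hp
    rcases hp with rfl | rfl
    · exact ⟨hs', hm⟩
    · exact ⟨hr', hn⟩
  have hR : ∀ p ∈ rhsW r s n m e, p.1 < 13 ∧ p.2 < 3 := by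
    intro p hp
    simp only [rhsW, List.mem_append, List.mem_cons, List.not_mem_nil, or_false] at hp
    rcases hp with ((rfl | rfl) | hp) | rfl
    · exact ⟨hr', hn⟩
    · exact ⟨hs', hm⟩
    · exact ⟨Nat.lt_succ_of_lt (hword p hp).1, (hword p hp).2⟩
    · exact ⟨by norm_num, he⟩
  have key : ((lhsW r s n m).map φ).prod = ((rhsW r s n m e).map φ).prod := Subtype.ext (by
    rw [hφ, hφ]
    exact Equiv.ext fun x => Fin.ext (by rw [ev_prod _ hL, ev_prod _ hR]; exact hx x x.2))
  have := congrArg (QuotientGroup.mk' K) key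
  simp only [lhsW, rhsW, List.map_cons, List.map_nil, List.prod_cons, List.prod_nil, mul_one,
    List.map_append, List.prod_append, map_mul, map_list_prod, List.map_map] at this
  have hk : ∀ {k v}, k < 13 → (QuotientGroup.mk' K (φ (k, v))) = X hF k (v : F) := fun {k v} hk => by
    rw [X_cast hF hk]; simp only [φ, dif_pos hk, map_pow]
  rw [hk hr', hk hs'] at this
  have hz1 : QuotientGroup.mk' K (φ (12, e)) = 1 := (QuotientGroup.eq_one_iff _).2 (by
    simp only [φ, dif_pos (show 12 < 13 by norm_num)]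
    exact pow_mem (Subgroup.mem_zpowers _) _)
  rw [hz1, mul_one] at this
  rw [this]
  congr 2
  simp only [word, ChevalleyDatum.commWord, commOf_eq hC hr hs, List.map_map]
  refine List.map_congr_left fun c hc => ?_
  show QuotientGroup.mk' K (φ _) = X hF c.1 _
  rw [hk (Nat.lt_succ_of_lt (hterms c hc).1)]
  congr 1
  set v : ℤ := c.2.1 * (-(n : ℤ)) ^ c.2.2.1 * (m : ℤ) ^ c.2.2.2 with hv
  have h1 : (((v % 3).toNat : ℕ) : F) = (v : F) := by
    rw [← Int.cast_natCast, Int.toNat_of_nonneg (Int.emod_nonneg _ (by norm_num))]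
    rw [CharP.intCast_eq_intCast F 3]
    exact Int.mod_modEq v 3
  rw [h1, hv]
  push_cast
  rfl

/-- The cover. -/
theorem exists_cover : ∃ (E : Type) (_ : Group E) (_ : Finite E) (σ : E →* ↥(chevG2.group F)),
    IsStemExtension σ ∧ Nat.card σ.ker = 3 := by
  obtain ⟨θ, hθ, hθv⟩ := exists_theta hF
  obtain ⟨f, hf⟩ := Sys.exists_hom hC (X_rels hF)
  have hsurj : Function.Surjective f := by
    rw [← MonoidHom.range_eq_top, eq_top_iff]
    have hgen : ∀ g : Fin 13, QuotientGroup.mk' K (QS g) ∈ f.range := by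
      intro g
      by_cases h : g.1 < 12
      · refine ⟨chevG2.scGen F g 1, ?_⟩
        rw [hf g h, ← Nat.cast_one, X_cast hF g.2, pow_one]
      · rw [show g = 12 from Fin.ext (by omega)]
        rw [show QuotientGroup.mk' K (QS 12) = 1 from (QuotientGroup.eq_one_iff _).2 (Subgroup.mem_zpowers _)]
        exact one_mem _
    rintro q -
    obtain ⟨⟨p, hp⟩, rfl⟩ := QuotientGroup.mk'_surjective K q
    induction hp using Subgroup.closure_induction with
    | mem p hp => obtain ⟨g, rfl⟩ := hp; exact hgen g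
    | one => exact (map_one (QuotientGroup.mk' K)).symm ▸ one_mem _
    | mul a b ha hb iha ihb =>
      have := mul_mem iha ihb
      rwa [← map_mul] at this
    | inv a ha iha =>
      have := inv_mem iha
      rwa [← map_inv] at this
  let e := MulEquiv.ofBijective θ hθ
  let ψ : ↥(chevG2.group F) →* ↥S ⧸ K := f.comp e.symm.toMonoidHom
  have hψ : Function.Surjective ψ := hsurj.comp e.symm.surjective
  have ha : ∃ a : F, a ≠ 0 ∧ a ≠ 1 := by
    haveI := SmallFields.charP_three hF
    refine ⟨((2 : ℕ) : F), ?_, ?_⟩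
    · rw [ne_eq, CharP.cast_eq_zero_iff F 3]; norm_num
    · rw [← Nat.cast_one, ne_eq, CharP.natCast_eq_natCast F 3, Nat.ModEq]; norm_num
  haveI := (Cfsg.Agent.Chevalley.Types.SimpleG2.simple_group F ha).1
  have hinj : Function.Injective ψ := by
    refine (MonoidHom.ker_eq_bot_iff ψ).1 ((ψ.normal_ker.eq_bot_or_eq_top).resolve_right fun h => ?_)
    have h1 : QuotientGroup.mk' K (QS 0) = 1 := by
      obtain ⟨g, hg⟩ := hψ (QuotientGroup.mk' K (QS 0))
      rw [← hg]
      exact MonoidHom.mem_ker.1 (h ▸ Subgroup.mem_top g)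
    have h2 : QS 0 ∈ K := (QuotientGroup.eq_one_iff _).1 h1
    obtain ⟨i, hi⟩ := Subgroup.mem_zpowers_iff.1 h2
    have h3 : Z ^ i = Q 0 := congrArg Subtype.val hi
    rw [zpow_eq_zpow_emod' i (Q_cube 12)] at h3
    obtain ⟨k, hk⟩ := Int.eq_ofNat_of_zero_le (Int.emod_nonneg i (show ((3 : ℕ) : ℤ) ≠ 0 by norm_num))
    have hk3 : k < 3 := by
      have := Int.emod_lt_of_pos i (show (0 : ℤ) < ((3 : ℕ) : ℤ) by norm_num)
      omega
    rw [hk, zpow_natCast] at h3
    have := congrArg (fun p : Equiv.Perm (Fin 1134) => ((p 9 : Fin 1134) : ℕ)) h3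
    interval_cases k
    · simp only [pow_zero, Equiv.Perm.one_apply, Q_apply] at this
      revert this; decide +kernel
    · simp only [pow_one, Q_apply] at this
      revert this; decide +kernel
    · simp only [Q_sq_apply, Q_apply] at this
      revert this; decide +kernel
  let E0 := MulEquiv.ofBijective ψ ⟨hinj, hψ⟩
  have hker : (E0.symm.toMonoidHom.comp (QuotientGroup.mk' K)).ker = K := by
    ext a
    simp [MonoidHom.mem_ker]
  refine ⟨↥S, inferInstance, inferInstance, E0.symm.toMonoidHom.comp (QuotientGroup.mk' K),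
    ⟨E0.symm.surjective.comp (QuotientGroup.mk'_surjective K), ?_, ?_⟩, ?_⟩
  · rw [hker]; exact K_le_center
  · rw [hker, K, Subgroup.zpowers_le]; exact Z_mem
  · rw [hker]; exact card_K

end Cfsg.Agent.G2ThreeMult
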