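import Cfsg.Agent.Lib.G2ThreeMult.Lower

/-!
# The multiplier of G2(3)

Modulo the commutator of the lifts of one pair of orthogonal roots a stem extension splits, so its
kernel is generated by that commutator, whose cube is trivial.
-/

set_option autoImplicit false
set_option maxHeartbeats 4000000

open scoped commutatorElement

namespace Cfsg.Agent.G2ThreeMult

open Cfsg.Lie Cfsg.Agent.Chevalley Cfsg.Agent.Chevalley.Cert Cfsg.Agent.Chevalley.Group
  Cfsg.Agent.Chevalley.Cover Cfsg.Agent.Chevalley.Relations Cfsg.Agent.Chevalley.Perfect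
  Cfsg.Agent.Chevalley.Unip Cfsg.Agent.Chevalley.Borel

universe u

variable {F : Type u} [Field F] [Fintype F] (hF : Fintype.card F = 3)
include hF

/-- The kernel of a stem extension is generated by an element of order dividing three. -/
theorem kernel_gen {Γ : Type u} [Group Γ] [Finite Γ] {σ : Γ →* ↥(chevG2.group F)}
    (hσ : IsStemExtension σ) : ∃ z ∈ σ.ker, z ^ 3 = 1 ∧ σ.ker ≤ Subgroup.zpowers z := by
  obtain ⟨hs, hc, hd⟩ := hσ
  obtain ⟨a, ha⟩ := hs ⟨_, xg_mem_group hC (show 6 < chevG2.nroots by decide) (1 : F)⟩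
  obtain ⟨b, hb⟩ := hs ⟨_, xg_mem_group hC (show 9 < chevG2.nroots by decide) (1 : F)⟩
  let Φ : Γ →* GL chevG2.Idx F := (chevG2.group F).subtype.comp σ
  have hΦk : Φ.ker = σ.ker :=
    MonoidHom.ker_comp_of_injective (f := σ) (g := (chevG2.group F).subtype) Subtype.val_injective
  have hΦc : Φ.ker ≤ Subgroup.center Γ := hΦk ▸ hc
  have hΦG : chevG2.group F ≤ Φ.range := fun g hg => by
    obtain ⟨x, hx⟩ := hs ⟨g, hg⟩
    exact ⟨x, congrArg Subtype.val hx⟩
  have hA : Φ a = xg hC 6 1 := congrArg Subtype.val ha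
  have hB : Φ b = xg hC 9 1 := congrArg Subtype.val hb
  obtain ⟨hr6, hr9⟩ : 6 < chevG2.nroots ∧ 9 < chevG2.nroots := ⟨by decide, by decide⟩
  haveI := SmallFields.charP_three hF
  -- the commutator
  have hzk : ⁅a, b⁆ ∈ σ.ker := by
    rw [← hΦk, MonoidHom.mem_ker, map_commutatorElement, hA, hB, commutatorElement_eq_one_iff_mul_comm]
    have h := Unip.xg_comm hC hr6 hr9 (by decide) (by decide) (1 : F) 1
    rw [List.prod_eq_one, mul_one] at h
    · exact h.symm
    intro g hg
    obtain ⟨e, he, rfl⟩ := List.mem_map.1 hg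
    simp only [ChevalleyDatum.commWord, List.mem_map] at he
    obtain ⟨d, hd, rfl⟩ := he
    have : chevG2.commTerms 6 9 = [] := by decide +kernel
    rw [this] at hd
    exact absurd hd List.not_mem_nil
  set z := ⁅a, b⁆
  have hz := Subgroup.mem_center_iff.1 (hc hzk)
  have hz3 : z ^ 3 = 1 := by
    have hpow : ∀ n : ℕ, ⁅a, b ^ n⁆ = z ^ n := fun n => by
      induction n with
      | zero => simp
      | succ k ih =>
        rw [pow_succ', Lift.comm_mul_right, ih,
          Subgroup.mem_center_iff.1 ((Subgroup.center Γ).pow_mem (hc hzk) k) b, mul_inv_cancel_right,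
          ← pow_succ']
    rw [← hpow 3]
    have hb3 : b ^ 3 ∈ σ.ker := by
      rw [← hΦk, MonoidHom.mem_ker, map_pow, hB, pow_three, ← xg_add hC, ← xg_add hC,
        show (1 : F) + (1 + 1) = ((3 : ℕ) : F) by norm_num, CharP.cast_eq_zero F 3, xg_zero hC]
    rw [commutatorElement_eq_one_iff_mul_comm]
    exact Subgroup.mem_center_iff.1 (hc hb3) a
  refine ⟨z, hzk, hz3, ?_⟩
  -- the quotient
  let N := Subgroup.zpowers z
  haveI : N.Normal := ⟨fun n hn g => by
    rw [Subgroup.mem_center_iff.1 (hc (Subgroup.zpowers_le.2 hzk hn)) g, mul_inv_cancel_right]; exact hn⟩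
  let π : Γ →* Γ ⧸ N := QuotientGroup.mk' N
  have hπ : Function.Surjective π := QuotientGroup.mk'_surjective N
  let σ' : Γ ⧸ N →* ↥(chevG2.group F) := QuotientGroup.lift N σ (Subgroup.zpowers_le.2 hzk)
  let Ψ : Γ ⧸ N →* GL chevG2.Idx F := (chevG2.group F).subtype.comp σ'
  have hΨ : ∀ x, Ψ (π x) = Φ x := fun _ => rfl
  have hΨc : Ψ.ker ≤ Subgroup.center (Γ ⧸ N) := by
    intro x hx
    obtain ⟨x, rfl⟩ := hπ x
    refine Subgroup.mem_center_iff.2 fun g => ?_
    obtain ⟨g, rfl⟩ := hπ g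
    rw [← map_mul, ← map_mul, Subgroup.mem_center_iff.1 (hΦc (show Φ x = 1 from hx)) g]
  have hΨG : chevG2.group F ≤ Ψ.range := fun g hg => by
    obtain ⟨x, hx⟩ := hΦG hg
    exact ⟨π x, hx⟩
  have hbase : ∀ {x y : Γ ⧸ N}, Ψ x = xg hC 6 1 → Ψ y = xg hC 9 1 → Commute x y := by
    intro x y hx hy
    have h0 : Commute (π a) (π b) := by
      rw [commute_iff_eq, ← commutatorElement_eq_one_iff_mul_comm, ← map_commutatorElement]
      exact (QuotientGroup.eq_one_iff _).2 (Subgroup.mem_zpowers z)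
    obtain ⟨w, hw, rfl⟩ := Lift.exists_central (π := Ψ) (a' := π a) (hx.trans (hA.symm.trans (hΨ a).symm))
    obtain ⟨w', hw', rfl⟩ := Lift.exists_central (π := Ψ) (a' := π b) (hy.trans (hB.symm.trans (hΨ b).symm))
    exact Commute.mul_left (Lift.comm_central hΨc hw _)
      (Commute.mul_right (Commute.symm (Lift.comm_central hΨc hw' _)) h0)
  obtain ⟨X, hX, hXv⟩ := exists_rels hF hΨc hΨG hbase
  obtain ⟨τ, hτ⟩ := Sys.exists_hom hC hX
  obtain ⟨θ, hθ, hθv⟩ := exists_theta hF
  have hστ : σ'.comp τ = θ := Sys.scHom_ext fun r hr t => Subtype.ext (by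
    rw [hθv r hr t, ← hXv r hr t, ← hτ r hr t]; rfl)
  have hσ' : IsStemExtension σ' := by
    refine ⟨fun g => ?_, ?_, ?_⟩
    · obtain ⟨x, hx⟩ := hs g
      exact ⟨π x, hx⟩
    · intro x hx
      exact hΨc (MonoidHom.mem_ker.2 (by simp [Ψ, MonoidHom.mem_ker.1 hx]))
    · intro x hx
      obtain ⟨x, rfl⟩ := hπ x
      have := Subgroup.mem_map_of_mem π (hd (show σ x = 1 from hx))
      rwa [commutator_def, Subgroup.map_commutator, Subgroup.map_top_of_surjective _ hπ,
        ← commutator_def] at this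
  obtain ⟨p, hp⟩ := Multiplier.stem_kernel_image θ hθ.2 hσ' hστ
  intro x hx
  obtain ⟨⟨c, hck⟩, hc'⟩ := hp ⟨π x, show σ x = 1 from hx⟩
  rw [MonoidHom.mem_ker] at hck
  have hc1 : (⟨c, hck⟩ : θ.ker) = 1 := Subtype.ext (hθ.1 (hck.trans (map_one θ).symm))
  rw [hc1, map_one] at hc'
  exact (QuotientGroup.eq_one_iff x).1 (congrArg Subtype.val hc').symm

/-- The Schur multiplier of G2(3) is cyclic of order three. -/
theorem multiplier : HasCyclicSchurMultiplier ↥(chevG2.group F) 3 := by
  refine ⟨?_, fun Γ _ _ σ hσ => ?_⟩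
  · obtain ⟨E, _, _, σ, hσ, hcard⟩ := exists_cover hF
    haveI := Fact.mk Nat.prime_three
    haveI : IsCyclic σ.ker := isCyclic_of_prime_card hcard
    let d : ULift.{u} E ≃* E := MulEquiv.ulift
    refine ⟨ULift.{u} E, inferInstance, inferInstance, σ.comp d.toMonoidHom, ⟨?_, ?_, ?_⟩, ⟨?_⟩⟩
    · exact hσ.1.comp d.surjective
    · intro x hx
      exact Subgroup.mem_center_iff.2 fun g => d.injective (by
        rw [map_mul, map_mul]; exact Subgroup.mem_center_iff.1 (hσ.2.1 hx) _)
    · intro x hx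
      have h := Subgroup.mem_map_of_mem d.symm.toMonoidHom (hσ.2.2 (show d x ∈ σ.ker from hx))
      rw [commutator_def, Subgroup.map_commutator, Subgroup.map_top_of_surjective _ d.symm.surjective,
        ← commutator_def] at h
      simpa using h
    · exact ({ toFun := fun x => ⟨d x.1, x.2⟩
               invFun := fun y => ⟨d.symm y.1, by simp [MonoidHom.mem_ker, MonoidHom.mem_ker.1 y.2]⟩
               left_inv := fun x => Subtype.ext (d.symm_apply_apply x.1)
               right_inv := fun y => by simp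
               map_mul' := fun x y => Subtype.ext (map_mul d x.1 y.1) } : (σ.comp d.toMonoidHom).ker ≃* σ.ker).trans
        (mulEquivOfCyclicCardEq (hcard.trans (by simp)))
  · obtain ⟨z, hzk, hz3, hle⟩ := kernel_gen hF hσ
    let e : σ.ker := ⟨z, hzk⟩
    have he : e ^ 3 = 1 := Subtype.ext hz3
    let π : Multiplicative (ZMod 3) →* σ.ker :=
      MonoidHom.mk' (fun t => e ^ t.toAdd.val) fun s t => by
        change e ^ (s.toAdd + t.toAdd).val = e ^ s.toAdd.val * e ^ t.toAdd.val
        rw [← pow_add, ZMod.val_add, ← pow_eq_pow_mod _ he]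
    refine ⟨π, fun x => ?_⟩
    obtain ⟨k, hk⟩ := Subgroup.mem_zpowers_iff.1 (hle x.2)
    refine ⟨Multiplicative.ofAdd (1 : ZMod 3) ^ k, ?_⟩
    rw [map_zpow, show π (Multiplicative.ofAdd 1) = e from pow_one e]
    exact Subtype.ext hk

end Cfsg.Agent.G2ThreeMult
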