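import Cfsg.Agent.Lib.G2ThreeMult.Data
import Cfsg.Agent.Lib.Chevalley.Check
import Cfsg.Agent.Lib.Chevalley.Data.G2
import Cfsg.Agent.Lib.Chevalley.Perfect

/-!
# The checks on the permutations

The letters of a relation are read off the commutator formula, and both sides are evaluated at
every point.
-/

set_option autoImplicit false

namespace Cfsg.Agent.G2ThreeMult.Perms

open Cfsg.Agent.Chevalley.Check Cfsg.Agent.Chevalley.Table

/-- A field of the packed values. -/
def get (P x : ℕ) : ℕ := (P >>> (12 * x)) % 4096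

/-- The packed permutation of the letter `(g, v)`, `v = 1, 2`. -/
def tab (g v : ℕ) : ℕ := ((Data.tabs.getD g []).getD (v - 1) 0)

/-- All points. -/
def pts (p : ℕ → Bool) : ℕ → Bool
  | 0 => true
  | n + 1 => p n && pts p n

theorem pts_spec {p : ℕ → Bool} : ∀ {n : ℕ}, pts p n = true → ∀ i < n, p i = true
  | 0, _, i, h => absurd h (Nat.not_lt_zero i)
  | n + 1, h, i, hi => by
    simp only [pts, Bool.and_eq_true] at h
    rcases Nat.lt_succ_iff_lt_or_eq.1 hi with hi | rfl
    · exact pts_spec h.2 i hi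
    · exact h.1

/-- One generator. -/
def genOK (g : ℕ) : Bool :=
  pts (fun x => decide (get (tab g 1) x < 1134) && get (tab g 2) x == get (tab g 1) (get (tab g 1) x) &&
    decide (get (tab g 2) x < 1134) && get (tab g 1) (get (tab g 2) x) == x &&
    get (tab g 1) (get (tab 12 1) x) == get (tab 12 1) (get (tab g 1) x)) 1134

/-- The letters of the word of the commutator formula. -/
noncomputable def word (r s t u : ℕ) : List (ℕ × ℕ) :=
  (commOf (Cfsg.Agent.Chevalley.Data.G2.tab).E r s).map fun c =>
    (c.1, ((c.2.1 * (-(t : ℤ)) ^ c.2.2.1 * (u : ℤ) ^ c.2.2.2) % 3).toNat)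

/-- The packed letters. -/
def pack (w : List (ℕ × ℕ)) : List ℕ := (w.filter fun p => !(p.2 == 0)).map fun p => tab p.1 p.2

/-- The left side. -/
def lhsW (r s t u : ℕ) : List (ℕ × ℕ) := [(s, u), (r, t)]

/-- The right side. -/
noncomputable def rhsW (r s t u e : ℕ) : List (ℕ × ℕ) :=
  [(r, t), (s, u)] ++ word r s t u ++ [(12, e)]

/-- The sides stated by a row. -/
noncomputable def sideOf (q : List ℕ) : List ℕ × List ℕ :=
  (pack (lhsW (q.getD 0 0) (q.getD 1 0) (q.getD 2 0) (q.getD 3 0)),
    pack (rhsW (q.getD 0 0) (q.getD 1 0) (q.getD 2 0) (q.getD 3 0) (q.getD 4 0)))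

/-- Evaluation at a point. -/
def ev (l : List ℕ) (x : ℕ) : ℕ := l.foldr get x

/-- Both sides agree everywhere. -/
def sidesOK : List (List ℕ × List ℕ) → Bool
  | [] => true
  | q :: l => pts (fun x => ev q.1 x == ev q.2 x) 1134 && sidesOK l

theorem sidesOK_spec : ∀ {l : List (List ℕ × List ℕ)}, sidesOK l = true →
    ∀ q ∈ l, ∀ x < 1134, ev q.1 x = ev q.2 x
  | [], _, q, h => absurd h List.not_mem_nil
  | a :: l, h, q, hq => by
    simp only [sidesOK, Bool.and_eq_true] at h
    rcases List.mem_cons.1 hq with rfl | hq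
    · exact fun x hx => by simpa using pts_spec h.1 x hx
    · exact sidesOK_spec h.2 q hq

/-- The rows state the sides. -/
noncomputable def statedOK (rows : List (List ℕ)) (sides : List (List ℕ × List ℕ)) : Bool :=
  rows.map sideOf == sides

theorem rowsOK {rows : List (List ℕ)} {sides : List (List ℕ × List ℕ)}
    (h1 : statedOK rows sides = true) (h2 : sidesOK sides = true) :
    ∀ q ∈ rows, ∀ x < 1134, ev (sideOf q).1 x = ev (sideOf q).2 x := by
  intro q hq
  simp only [statedOK, beq_iff_eq] at h1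
  exact sidesOK_spec h2 _ (h1 ▸ List.mem_map_of_mem hq)

end Cfsg.Agent.G2ThreeMult.Perms
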